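import Mathlib.Algebra.Homology.Refinements
import Mathlib.Algebra.Homology.HomologicalComplex
import Mathlib.Algebra.Homology.ShortComplex.HomologicalComplex
import Mathlib.CategoryTheory.Abelian.Refinements
import Mathlib.CategoryTheory.Preadditive.Injective.Basic
import Mathlib.CategoryTheory.Abelian.Exact

/-!
# Extending ladders of maps on `H⁰` to maps of left exact sequences of complexes
-/

set_option autoImplicit false
universe u v

open CategoryTheory Category Limits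

namespace K774.Ladder

open HomologicalComplex

variable {V : Type u} [Category.{v} V] [Abelian V]

section Exactness

variable {C' C C'' : CochainComplex V ℕ} (j : C' ⟶ C) (π : C ⟶ C'')

/-- The short complex `Z' → C' ⊞ Z → C`. -/
noncomputable def S₁ (n : ℕ) : ShortComplex V :=
  ShortComplex.mk (biprod.lift (C'.iCycles n) (-(cyclesMap j n))) (biprod.desc (j.f n) (C.iCycles n)) (by
    simp)

theorem exact₁ (n : ℕ) [Mono (j.f (n + 1))] : (S₁ j n).Exact := by
  rw [ShortComplex.exact_iff_exact_up_to_refinements]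
  intro A x hx
  change A ⟶ C'.X n ⊞ C.cycles n at x
  change x ≫ biprod.desc (j.f n) (C.iCycles n) = 0 at hx
  rw [biprod.desc_eq, Preadditive.comp_add, ← assoc, ← assoc] at hx
  obtain ⟨a, ha⟩ : ∃ a : A ⟶ C'.X n, x ≫ biprod.fst = a := ⟨_, rfl⟩
  obtain ⟨z, hz⟩ : ∃ z : A ⟶ C.cycles n, x ≫ biprod.snd = z := ⟨_, rfl⟩
  rw [ha, hz] at hx
  have hx' : z ≫ C.iCycles n = - (a ≫ j.f n) := eq_neg_of_add_eq_zero_right hx
  have had : a ≫ C'.d n (n + 1) = 0 := by
    rw [← cancel_mono (j.f (n + 1)), assoc, ← j.comm, ← assoc, zero_comp]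
    have : a ≫ j.f n = -(z ≫ C.iCycles n) := by rw [hx', neg_neg]
    rw [this, Preadditive.neg_comp, assoc, iCycles_d, comp_zero, neg_zero]
  refine ⟨A, 𝟙 A, inferInstance, C'.liftCycles a (n + 1) (by simp) had, ?_⟩
  refine (id_comp x).trans ?_
  change x = _ ≫ biprod.lift (C'.iCycles n) (-(cyclesMap j n))
  apply biprod.hom_ext
  · rw [assoc, biprod.lift_fst, liftCycles_i, ha]
  · rw [assoc, biprod.lift_snd, hz, Preadditive.comp_neg, ← cancel_mono (C.iCycles n), Preadditive.neg_comp, assoc, cyclesMap_i,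
      liftCycles_i_assoc]
    exact hx'

/-- The short complex `C' ⊞ Z → C ⊞ Z'' → C''`. -/
noncomputable def S₂ (n : ℕ) (w : j.f n ≫ π.f n = 0) : ShortComplex V :=
  ShortComplex.mk (biprod.desc (biprod.lift (j.f n) 0) (biprod.lift (C.iCycles n) (-(cyclesMap π n))))
    (biprod.desc (π.f n) (C''.iCycles n)) (by
      apply biprod.hom_ext'
      · rw [biprod.inl_desc_assoc, biprod.lift_desc, w, zero_comp, add_zero, comp_zero]
      · rw [biprod.inr_desc_assoc, biprod.lift_desc, Preadditive.neg_comp, cyclesMap_i, add_neg_cancel, comp_zero])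

theorem exact₂ (n : ℕ) (w : ∀ n, j.f n ≫ π.f n = 0) [Mono (j.f (n + 1))] [Mono (j.f (n + 1 + 1))]
    (ex : (ShortComplex.mk (j.f (n + 1)) (π.f (n + 1)) (w (n + 1))).Exact) (h : C'.ExactAt (n + 1)) :
    (S₂ j π n (w n)).Exact := by
  rw [ShortComplex.exact_iff_exact_up_to_refinements]
  intro A x hx
  change A ⟶ C.X n ⊞ C''.cycles n at x
  change x ≫ biprod.desc (π.f n) (C''.iCycles n) = 0 at hx
  rw [biprod.desc_eq, Preadditive.comp_add, ← assoc, ← assoc] at hx
  obtain ⟨c, hc⟩ : ∃ c : A ⟶ C.X n, x ≫ biprod.fst = c := ⟨_, rfl⟩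
  obtain ⟨z, hz⟩ : ∃ z : A ⟶ C''.cycles n, x ≫ biprod.snd = z := ⟨_, rfl⟩
  rw [hc, hz] at hx
  have hx' : c ≫ π.f n = - (z ≫ C''.iCycles n) := eq_neg_of_add_eq_zero_left hx
  have h1 : (c ≫ C.d n (n + 1)) ≫ π.f (n + 1) = 0 := by
    rw [assoc, ← π.comm, ← assoc, hx', Preadditive.neg_comp, assoc, iCycles_d, comp_zero, neg_zero]
  have : Mono (ShortComplex.mk (j.f (n + 1)) (π.f (n + 1)) (w (n + 1))).f := ‹Mono (j.f (n + 1))›
  let e : A ⟶ C'.X (n + 1) := ex.lift (c ≫ C.d n (n + 1)) h1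
  have he : e ≫ j.f (n + 1) = c ≫ C.d n (n + 1) := ex.lift_f _ _
  have hed : e ≫ C'.d (n + 1) (n + 1 + 1) = 0 := by
    rw [← cancel_mono (j.f (n + 1 + 1)), assoc, ← j.comm, ← assoc, he, assoc, C.d_comp_d, comp_zero, zero_comp]
  obtain ⟨A', π₀, hπ₀, c', hc'⟩ := (exactAt_iff_exact_up_to_refinements C' n (n + 1) (n + 1 + 1) (by simp) (by simp)).1 h e hed
  have hzz : (π₀ ≫ c - c' ≫ j.f n) ≫ C.d n (n + 1) = 0 := by
    rw [Preadditive.sub_comp, assoc, assoc, ← he, j.comm, ← assoc, hc', assoc, sub_self]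
  refine ⟨A', π₀, hπ₀, biprod.lift c' (C.liftCycles (π₀ ≫ c - c' ≫ j.f n) (n + 1) (by simp) hzz), ?_⟩
  change π₀ ≫ x = _ ≫ biprod.desc (biprod.lift (j.f n) 0) (biprod.lift (C.iCycles n) (-(cyclesMap π n)))
  rw [biprod.lift_desc]
  apply biprod.hom_ext
  · rw [Preadditive.add_comp, assoc, assoc, assoc, biprod.lift_fst, biprod.lift_fst, liftCycles_i, hc]
    abel
  · rw [Preadditive.add_comp, assoc, assoc, assoc, biprod.lift_snd, biprod.lift_snd, comp_zero, zero_add, hz,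
      ← cancel_mono (C''.iCycles n), Preadditive.comp_neg, Preadditive.neg_comp, assoc, assoc, cyclesMap_i, liftCycles_i_assoc,
      Preadditive.sub_comp, assoc, assoc, w n, comp_zero, sub_zero, hx', Preadditive.comp_neg, neg_neg]

/-- The short complex `Z^n → C^n → Z^{n+1}`. -/
noncomputable def S₃ (C : CochainComplex V ℕ) (n : ℕ) : ShortComplex V :=
  ShortComplex.mk (C.iCycles n) (C.toCycles n (n + 1)) (by
    rw [← cancel_mono (C.iCycles (n + 1)), assoc, toCycles_i, iCycles_d, zero_comp])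

theorem exact₃ (C : CochainComplex V ℕ) (n : ℕ) : (S₃ C n).Exact := by
  rw [ShortComplex.exact_iff_exact_up_to_refinements]
  intro A x hx
  change A ⟶ C.X n at x
  change x ≫ C.toCycles n (n + 1) = 0 at hx
  have hx' : x ≫ C.d n (n + 1) = 0 := by
    rw [← toCycles_i, ← assoc, hx, zero_comp]
  exact ⟨A, 𝟙 A, inferInstance, C.liftCycles x (n + 1) (by simp) hx', by
    exact (id_comp x).trans (liftCycles_i _ _ _ _ _).symm⟩

theorem epi_toCycles (C : CochainComplex V ℕ) (n : ℕ) (h : C.ExactAt (n + 1)) : Epi (C.toCycles n (n + 1)) := by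
  rw [epi_iff_surjective_up_to_refinements]
  intro A y
  obtain ⟨A', π₀, hπ₀, x, hx⟩ := (exactAt_iff_exact_up_to_refinements C n (n + 1) (n + 1 + 1) (by simp) (by simp)).1 h
    (y ≫ C.iCycles (n + 1)) (by rw [assoc, iCycles_d, comp_zero])
  refine ⟨A', π₀, hπ₀, x, ?_⟩
  rw [← cancel_mono (C.iCycles (n + 1)), assoc, assoc, toCycles_i, hx]

end Exactness

section Step

variable {C' C C'' : CochainComplex V ℕ} (j : C' ⟶ C) (π : C ⟶ C'') {J' J J'' : V} [Injective J'] [Injective J]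
  [Injective J''] (a : J' ⟶ J) (b : J ⟶ J'')

/-- The extension step. -/
theorem step (hab : a ≫ b = 0) (n : ℕ) (w : ∀ n, j.f n ≫ π.f n = 0) [∀ n, Mono (j.f n)]
    (ex : (ShortComplex.mk (j.f (n + 1)) (π.f (n + 1)) (w (n + 1))).Exact) (h : C'.ExactAt (n + 1))
    (φ' : C'.cycles n ⟶ J') (φ : C.cycles n ⟶ J) (φ'' : C''.cycles n ⟶ J'')
    (h1 : cyclesMap j n ≫ φ = φ' ≫ a) (h2 : cyclesMap π n ≫ φ'' = φ ≫ b) :
    ∃ (f' : C'.X n ⟶ J') (f : C.X n ⟶ J) (f'' : C''.X n ⟶ J''),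
      C'.iCycles n ≫ f' = φ' ∧ C.iCycles n ≫ f = φ ∧ C''.iCycles n ≫ f'' = φ'' ∧
      j.f n ≫ f = f' ≫ a ∧ π.f n ≫ f'' = f ≫ b := by
  let f' : C'.X n ⟶ J' := Injective.factorThru φ' (C'.iCycles n)
  have hf' : C'.iCycles n ≫ f' = φ' := Injective.comp_factorThru _ _
  have hk1 : (S₁ j n).f ≫ (biprod.desc (f' ≫ a) φ : (S₁ j n).X₂ ⟶ J) = 0 := by
    change biprod.lift (C'.iCycles n) (-(cyclesMap j n)) ≫ biprod.desc (f' ≫ a) φ = 0
    rw [biprod.lift_desc, ← assoc, hf', Preadditive.neg_comp, h1, add_neg_cancel]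
  let f : C.X n ⟶ J := (exact₁ j n).descToInjective _ hk1
  have hf : biprod.desc (j.f n) (C.iCycles n) ≫ f = biprod.desc (f' ≫ a) φ := (exact₁ j n).comp_descToInjective _ hk1
  have hf1 : j.f n ≫ f = f' ≫ a := by
    have := congrArg (fun t => biprod.inl ≫ t) hf
    simpa using this
  have hf2 : C.iCycles n ≫ f = φ := by
    have := congrArg (fun t => biprod.inr ≫ t) hf
    simpa using this
  have hk2 : (S₂ j π n (w n)).f ≫ (biprod.desc (f ≫ b) φ'' : (S₂ j π n (w n)).X₂ ⟶ J'') = 0 := by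
    change biprod.desc (biprod.lift (j.f n) 0) (biprod.lift (C.iCycles n) (-(cyclesMap π n))) ≫ biprod.desc (f ≫ b) φ'' = 0
    apply biprod.hom_ext'
    · rw [biprod.inl_desc_assoc, biprod.lift_desc, zero_comp, add_zero, ← assoc, hf1, assoc, hab, comp_zero, comp_zero]
    · rw [biprod.inr_desc_assoc, biprod.lift_desc, Preadditive.neg_comp, h2, ← assoc, hf2, add_neg_cancel, comp_zero]
  let f'' : C''.X n ⟶ J'' := (exact₂ j π n w ex h).descToInjective _ hk2
  have hf'' : biprod.desc (π.f n) (C''.iCycles n) ≫ f'' = biprod.desc (f ≫ b) φ'' :=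
    (exact₂ j π n w ex h).comp_descToInjective _ hk2
  have hf1'' : π.f n ≫ f'' = f ≫ b := by
    have := congrArg (fun t => biprod.inl ≫ t) hf''
    simpa using this
  have hf2'' : C''.iCycles n ≫ f'' = φ'' := by
    have := congrArg (fun t => biprod.inr ≫ t) hf''
    simpa using this
  exact ⟨f', f, f'', hf', hf2, hf2'', hf1, hf1''⟩

end Step

/-- Descend a map to the next cycles. -/
theorem next {C : CochainComplex V ℕ} (n : ℕ) (h : C.ExactAt (n + 1)) {J : V} (f : C.X n ⟶ J) (hf : C.iCycles n ≫ f = 0) :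
    ∃ φ : C.cycles (n + 1) ⟶ J, C.toCycles n (n + 1) ≫ φ = f := by
  have : Epi (S₃ C n).g := epi_toCycles C n h
  exact ⟨(exact₃ C n).desc f hf, (exact₃ C n).g_desc f hf⟩

end K774.Ladder
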