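import Groth.Agent.CechDer.K774.Ladder

/-!
# Ladders of maps on `H⁰` extend to ladders of chain maps into injective complexes
-/

set_option autoImplicit false
universe u v

open CategoryTheory Category Limits

namespace K774.LadderMain

open HomologicalComplex K774.Ladder

variable {V : Type u} [Category.{v} V] [Abelian V] {C' C C'' I' I I'' : CochainComplex V ℕ}
  (jC : C' ⟶ C) (πC : C ⟶ C'') (jI : I' ⟶ I) (πI : I ⟶ I'')

/-- The data at stage `n`: compatible maps on cycles. -/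
structure Stage (n : ℕ) where
  φ' : C'.cycles n ⟶ I'.X n
  φ : C.cycles n ⟶ I.X n
  φ'' : C''.cycles n ⟶ I''.X n
  h' : φ' ≫ I'.d n (n + 1) = 0
  h : φ ≫ I.d n (n + 1) = 0
  h'' : φ'' ≫ I''.d n (n + 1) = 0
  c1 : cyclesMap jC n ≫ φ = φ' ≫ jI.f n
  c2 : cyclesMap πC n ≫ φ'' = φ ≫ πI.f n

/-- An extension of the data at stage `n`. -/
structure Ext {n : ℕ} (s : Stage jC πC jI πI n) where
  f' : C'.X n ⟶ I'.X n
  f : C.X n ⟶ I.X n
  f'' : C''.X n ⟶ I''.X n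
  e' : C'.iCycles n ≫ f' = s.φ'
  e : C.iCycles n ≫ f = s.φ
  e'' : C''.iCycles n ≫ f'' = s.φ''
  c1 : jC.f n ≫ f = f' ≫ jI.f n
  c2 : πC.f n ≫ f'' = f ≫ πI.f n

variable (mC : ∀ n, Mono (jC.f n)) (wC : ∀ n, jC.f n ≫ πC.f n = 0)
    (exC : ∀ n, (ShortComplex.mk (jC.f n) (πC.f n) (wC n)).Exact)
    (wI : ∀ n, jI.f n ≫ πI.f n = 0)
    (hC' : ∀ n, 0 < n → C'.ExactAt n) (hC : ∀ n, 0 < n → C.ExactAt n) (hC'' : ∀ n, 0 < n → C''.ExactAt n)
    (injI' : ∀ n, Injective (I'.X n)) (injI : ∀ n, Injective (I.X n)) (injI'' : ∀ n, Injective (I''.X n))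

include mC exC wI hC' injI' injI injI'' in
theorem nonempty_ext {n : ℕ} (s : Stage jC πC jI πI n) : Nonempty (Ext jC πC jI πI s) := by
  have := injI' n
  have := injI n
  have := injI'' n
  obtain ⟨f', f, f'', e', e, e'', c1, c2⟩ := step jC πC (jI.f n) (πI.f n) (wI n) n wC (exC (n + 1)) (hC' (n + 1) (by omega))
    s.φ' s.φ s.φ'' s.c1 s.c2
  exact ⟨⟨f', f, f'', e', e, e'', c1, c2⟩⟩

include hC' hC hC'' in
theorem exists_next {n : ℕ} (s : Stage jC πC jI πI n) (x : Ext jC πC jI πI s) :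
    ∃ t : Stage jC πC jI πI (n + 1), C'.toCycles n (n + 1) ≫ t.φ' = x.f' ≫ I'.d n (n + 1) ∧
      C.toCycles n (n + 1) ≫ t.φ = x.f ≫ I.d n (n + 1) ∧
      C''.toCycles n (n + 1) ≫ t.φ'' = x.f'' ≫ I''.d n (n + 1) := by
  obtain ⟨φ', hφ'⟩ := next n (hC' (n + 1) (by omega)) (x.f' ≫ I'.d n (n + 1)) (by rw [← assoc, x.e', s.h'])
  obtain ⟨φ, hφ⟩ := next n (hC (n + 1) (by omega)) (x.f ≫ I.d n (n + 1)) (by rw [← assoc, x.e, s.h])
  obtain ⟨φ'', hφ''⟩ := next n (hC'' (n + 1) (by omega)) (x.f'' ≫ I''.d n (n + 1)) (by rw [← assoc, x.e'', s.h''])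
  have e1 := epi_toCycles C' n (hC' (n + 1) (by omega))
  have e2 := epi_toCycles C n (hC (n + 1) (by omega))
  have e3 := epi_toCycles C'' n (hC'' (n + 1) (by omega))
  refine ⟨⟨φ', φ, φ'', ?_, ?_, ?_, ?_, ?_⟩, hφ', hφ, hφ''⟩
  · rw [← cancel_epi (C'.toCycles n (n + 1)), ← assoc, hφ', assoc, I'.d_comp_d, comp_zero, comp_zero]
  · rw [← cancel_epi (C.toCycles n (n + 1)), ← assoc, hφ, assoc, I.d_comp_d, comp_zero, comp_zero]
  · rw [← cancel_epi (C''.toCycles n (n + 1)), ← assoc, hφ'', assoc, I''.d_comp_d, comp_zero, comp_zero]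
  · have h1 : C'.toCycles n (n + 1) ≫ cyclesMap jC (n + 1) = jC.f n ≫ C.toCycles n (n + 1) := by
      rw [← cancel_mono (C.iCycles (n + 1)), assoc, assoc, cyclesMap_i, toCycles_i, toCycles_i_assoc, jC.comm]
    rw [← cancel_epi (C'.toCycles n (n + 1)), ← assoc, h1, assoc, hφ, ← assoc, x.c1, ← assoc, hφ', assoc, assoc, jI.comm]
  · have h1 : C.toCycles n (n + 1) ≫ cyclesMap πC (n + 1) = πC.f n ≫ C''.toCycles n (n + 1) := by
      rw [← cancel_mono (C''.iCycles (n + 1)), assoc, assoc, cyclesMap_i, toCycles_i, toCycles_i_assoc, πC.comm]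
    rw [← cancel_epi (C.toCycles n (n + 1)), ← assoc, h1, assoc, hφ'', ← assoc, x.c2, ← assoc, hφ, assoc, assoc, πI.comm]

include hC' hC hC'' injI' injI injI'' mC exC wI in
theorem exists_ladder (s₀ : Stage jC πC jI πI 0) :
    ∃ (f' : C' ⟶ I') (f : C ⟶ I) (f'' : C'' ⟶ I''),
      jC ≫ f = f' ≫ jI ∧ πC ≫ f'' = f ≫ πI ∧
      C'.iCycles 0 ≫ f'.f 0 = s₀.φ' ∧ C.iCycles 0 ≫ f.f 0 = s₀.φ ∧ C''.iCycles 0 ≫ f''.f 0 = s₀.φ'' := by
  have hext := fun (n : ℕ) (s : Stage jC πC jI πI n) => nonempty_ext jC πC jI πI mC wC exC wI hC' injI' injI injI'' s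
  have hnext := fun (n : ℕ) (s : Stage jC πC jI πI n) (x : Ext jC πC jI πI s) =>
    exists_next jC πC jI πI hC' hC hC'' s x
  let E : ∀ (n : ℕ) (s : Stage jC πC jI πI n), Ext jC πC jI πI s := fun n s => (hext n s).some
  choose T hT using hnext
  let S : ∀ n, Stage jC πC jI πI n := fun n => Nat.rec s₀ (fun n s => T n s (E n s)) n
  have hS : ∀ n, S (n + 1) = T n (S n) (E n (S n)) := fun n => rfl
  let X : ∀ n, Ext jC πC jI πI (S n) := fun n => E n (S n)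
  have key' : ∀ n, C'.d n (n + 1) ≫ (X (n + 1)).f' = (X n).f' ≫ I'.d n (n + 1) := by
    intro n
    rw [← (hT n (S n) (X n)).1, ← toCycles_i, assoc, (X (n + 1)).e']
  have key : ∀ n, C.d n (n + 1) ≫ (X (n + 1)).f = (X n).f ≫ I.d n (n + 1) := by
    intro n
    rw [← (hT n (S n) (X n)).2.1, ← toCycles_i, assoc, (X (n + 1)).e]
  have key'' : ∀ n, C''.d n (n + 1) ≫ (X (n + 1)).f'' = (X n).f'' ≫ I''.d n (n + 1) := by
    intro n
    rw [← (hT n (S n) (X n)).2.2, ← toCycles_i, assoc, (X (n + 1)).e'']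
  refine ⟨{ f := fun n => (X n).f', comm' := ?_ }, { f := fun n => (X n).f, comm' := ?_ },
    { f := fun n => (X n).f'', comm' := ?_ }, ?_, ?_, (X 0).e', (X 0).e, (X 0).e''⟩
  · rintro i k hik
    obtain rfl : i + 1 = k := hik
    exact (key' i).symm
  · rintro i k hik
    obtain rfl : i + 1 = k := hik
    exact (key i).symm
  · rintro i k hik
    obtain rfl : i + 1 = k := hik
    exact (key'' i).symm
  · ext n
    exact (X n).c1
  · ext n
    exact (X n).c2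

theorem main (C' C C'' I' I I'' : CochainComplex V ℕ)
    (jC : C' ⟶ C) (πC : C ⟶ C'') (jI : I' ⟶ I) (πI : I ⟶ I'')
    (mC : ∀ n, Mono (jC.f n)) (wC : ∀ n, jC.f n ≫ πC.f n = 0)
    (exC : ∀ n, (ShortComplex.mk (jC.f n) (πC.f n) (wC n)).Exact)
    (wI : ∀ n, jI.f n ≫ πI.f n = 0)
    (hC' : ∀ n, 0 < n → C'.ExactAt n) (hC : ∀ n, 0 < n → C.ExactAt n) (hC'' : ∀ n, 0 < n → C''.ExactAt n)
    (injI' : ∀ n, Injective (I'.X n)) (injI : ∀ n, Injective (I.X n)) (injI'' : ∀ n, Injective (I''.X n))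
    (g' : C'.homology 0 ⟶ I'.homology 0) (g : C.homology 0 ⟶ I.homology 0)
    (g'' : C''.homology 0 ⟶ I''.homology 0)
    (hg1 : HomologicalComplex.homologyMap jC 0 ≫ g = g' ≫ HomologicalComplex.homologyMap jI 0)
    (hg2 : HomologicalComplex.homologyMap πC 0 ≫ g'' = g ≫ HomologicalComplex.homologyMap πI 0) :
    ∃ (f' : C' ⟶ I') (f : C ⟶ I) (f'' : C'' ⟶ I''),
      jC ≫ f = f' ≫ jI ∧ πC ≫ f'' = f ≫ πI ∧
      HomologicalComplex.homologyMap f' 0 = g' ∧ HomologicalComplex.homologyMap f 0 = g ∧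
      HomologicalComplex.homologyMap f'' 0 = g'' := by
  let mk : ∀ {A B : CochainComplex V ℕ} (γ : A.homology 0 ⟶ B.homology 0), A.cycles 0 ⟶ B.X 0 :=
    fun {A B} γ => A.homologyπ 0 ≫ γ ≫ (CochainComplex.isoHomologyπ₀ B).inv ≫ B.iCycles 0
  have hmk : ∀ {A B : CochainComplex V ℕ} (γ : A.homology 0 ⟶ B.homology 0) (f : A ⟶ B),
      A.iCycles 0 ≫ f.f 0 = mk γ → homologyMap f 0 = γ := by
    intro A B γ f hf
    rw [← cancel_epi (A.homologyπ 0), homologyπ_naturality]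
    have h1 : cyclesMap f 0 = A.homologyπ 0 ≫ γ ≫ (CochainComplex.isoHomologyπ₀ B).inv := by
      rw [← cancel_mono (B.iCycles 0), cyclesMap_i, hf, assoc, assoc]
    rw [h1, assoc, assoc]
    have h2 : (CochainComplex.isoHomologyπ₀ B).inv ≫ B.homologyπ 0 = 𝟙 _ := (CochainComplex.isoHomologyπ₀ B).inv_hom_id
    rw [h2, comp_id]
  have hnat : ∀ {A B A₁ B₁ : CochainComplex V ℕ} (γ : A.homology 0 ⟶ B.homology 0) (γ₁ : A₁.homology 0 ⟶ B₁.homology 0)
      (a : A ⟶ A₁) (b : B ⟶ B₁) (_ : homologyMap a 0 ≫ γ₁ = γ ≫ homologyMap b 0),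
      cyclesMap a 0 ≫ mk γ₁ = mk γ ≫ b.f 0 := by
    intro A B A₁ B₁ γ γ₁ a b h
    simp only [mk]
    rw [← homologyπ_naturality_assoc, ← assoc (homologyMap a 0), h, assoc, assoc, assoc, assoc, ← cyclesMap_i,
      ← CochainComplex.isoHomologyπ₀_inv_naturality_assoc]
  obtain ⟨f', f, f'', c1, c2, e', e, e''⟩ := exists_ladder jC πC jI πI mC wC exC wI hC' hC hC'' injI' injI injI''
    { φ' := mk g', φ := mk g, φ'' := mk g'',
      h' := by simp [mk], h := by simp [mk], h'' := by simp [mk],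
      c1 := hnat _ _ _ _ hg1, c2 := hnat _ _ _ _ hg2 }
  exact ⟨f', f, f'', c1, c2, hmk _ _ e', hmk _ _ e, hmk _ _ e''⟩

end K774.LadderMain
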